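import Cfsg.Agent.H120.OZ.GLTwo
import Cfsg.Agent.KFacts.RgdChevCoord
import Cfsg.Agent.H985.VZ.Defs

/-!
# S4842: subgroups generated by root groups and the node homomorphisms of `D.group K` (helper120)

* `GS hp K L` : the subgroup generated by the root groups with indices in the list `L`;
* `GS.conj` : a root group normalises `GS L` (decidable criterion `chk`);
* `GS.step` : `g` normalises `GS L`, acts on `X_r` as a scalar `c ≠ 1`: `C_{GS (r :: L)}(g) ≤ GS L`;
* `exists_psi` : the homomorphism `SL₂(K) → D.group K` of a node.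
-/

set_option autoImplicit false
set_option linter.unusedSectionVars false

namespace Cfsg.Agent.H120.OZ

open CoxeterSystem Cfsg.Agent.ChevalleyStructure.CoxeterGeom Cfsg.Agent.Tits.Roots Cfsg.Agent.Tits.Core
  Cfsg.Agent.Nodes.Reps Cfsg.Agent.Nodes.BNOf
  Cfsg.Agent.Nodes.OppDec Cfsg.Agent.Nodes.RGDChev Cfsg.Agent.KFacts.RgdChevCoord
open Cfsg.Lie Cfsg.Agent.ChevalleyStructure Cfsg.Agent.ChevalleyStructure.Elts
  Cfsg.Agent.ChevalleyStructure.RootVec Cfsg.Agent.ChevalleyStructure.RootVecTab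
  Cfsg.Agent.ChevalleyStructure.NPerm Cfsg.Agent.ChevalleyStructure.CoxeterGeomTypes
open Cfsg.Agent.ChevalleyStructure.SL2Hom (up lo)
open Cfsg.Agent.H934.PQR.TorGen (tau)
open scoped commutatorElement

universe u

variable {D : ChevalleyDatum} {l : ℕ} {M : CoxeterMatrix (Fin l)} (hp : IsType D l M) {K : Type u} [Field K]

/-- the root element with index `r` -/
noncomputable def xr (hp : IsType D l M) (r : ℕ) (a : K) : ↥(D.group K) :=
  ⟨xG hp.inList r a, xG_mem_group hp.inList r a⟩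

theorem coe_xr (r : ℕ) (a : K) : ((xr hp r a : ↥(D.group K)) : GL D.Idx K) = xG hp.inList r a := rfl

theorem xc_vec {r : ℕ} (hr : r < D.nroots) (a : K) : xc hp (vec D l r) a = xr hp r a :=
  Subtype.ext (coe_xc hp hr a)

theorem xr_add (r : ℕ) (a b : K) : xr hp r a * xr hp r b = xr hp r (a + b) :=
  Subtype.ext (xG_add hp.inList r a b)

theorem xr_zero (r : ℕ) : xr hp r (0 : K) = 1 := Subtype.ext (xG_zero hp.inList r)

theorem xr_inv (r : ℕ) (a : K) : (xr hp r a)⁻¹ = xr hp r (-a) := Subtype.ext (xG_inv hp.inList r a)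

theorem xr_inj {r : ℕ} (hr : r < D.nroots) : Function.Injective (xr (K := K) hp r) := fun a b h =>
  xG_injective hp.inList hr (congrArg Subtype.val h)

theorem mem_XX_vec {r : ℕ} (hr : r < D.nroots) {g : ↥(D.group K)} : g ∈ XX D l K (vec D l r) ↔
    ∃ a, g = xr hp r a := by
  rw [Subgroup.mem_subgroupOf, XV_vec hp K hr, mem_rootSubgroup_iff hp.inList]
  constructor
  · rintro ⟨t, ht⟩
    exact ⟨t, Subtype.ext ht⟩
  · rintro ⟨t, rfl⟩
    exact ⟨t, rfl⟩

/-- the subgroup generated by the root groups with index in `L` -/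
def GS (hp : IsType D l M) (K : Type u) [Field K] (L : List ℕ) : Subgroup ↥(D.group K) :=
  Subgroup.closure {g | ∃ r ∈ L, ∃ a : K, g = xr hp r a}

theorem xr_mem_GS {L : List ℕ} {r : ℕ} (hr : r ∈ L) (a : K) : xr hp r a ∈ GS hp K L :=
  Subgroup.subset_closure ⟨r, hr, a, rfl⟩

theorem GS_nil : GS hp K [] = ⊥ := by
  rw [GS, Subgroup.closure_eq_bot_iff]
  rintro g ⟨r, hr, -⟩
  simp at hr

theorem GS_mono {L L' : List ℕ} (h : ∀ r ∈ L, r ∈ L') : GS hp K L ≤ GS hp K L' :=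
  Subgroup.closure_mono fun _ ⟨r, hr, a, e⟩ => ⟨r, h r hr, a, e⟩

theorem exists_word_mem {L : List ℕ} (w : List (ℕ × K)) (hw : ∀ c ∈ w, c.1 ∈ L) :
    ∃ g ∈ GS hp K L, ((g : ↥(D.group K)) : GL D.Idx K) = wordG hp.inList w := by
  induction w with
  | nil => exact ⟨1, one_mem _, rfl⟩
  | cons c w ih =>
    obtain ⟨g, hg, e⟩ := ih fun d hd => hw d (List.mem_cons_of_mem _ hd)
    refine ⟨xr hp c.1 c.2 * g, mul_mem (xr_mem_GS hp (hw c List.mem_cons_self) _) hg, ?_⟩
    rw [wordG_cons, Subgroup.coe_mul, e, coe_xr]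

/-- the commutator formula -/
theorem comm_xr {r s : ℕ} (hr : r < D.nroots) (hs : s < D.nroots) (hrs : s ≠ r) (hneg : s ≠ D.neg r) {L : List ℕ}
    (hc : ∀ c ∈ D.commTerms r s, c.1 ∈ L) (a b : K) : ⁅xr hp s a, xr hp r b⁆ ∈ GS hp K L := by
  have e : ⁅xG hp.inList s a, xG hp.inList r b⁆ = wordG hp.inList (D.commWord K r s (-b) (-a)) := by
    rw [← comm_xG hp hr hs hrs hneg, xG_inv, xG_inv, _root_.neg_neg, _root_.neg_neg]
  obtain ⟨g, hg, h1⟩ := exists_word_mem hp (K := K) (L := L) (D.commWord K r s (-b) (-a)) (by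
    intro c hc'
    have hc'' : c ∈ (D.commTerms r s).map fun c => (c.1, (c.2.1 : K) * (- -b) ^ c.2.2.1 * (-a) ^ c.2.2.2) := hc'
    rw [List.mem_map] at hc''
    obtain ⟨c', hc1, rfl⟩ := hc''
    exact hc c' hc1)
  have h2 : ⁅xr hp s a, xr hp r b⁆ = g := by
    apply Subtype.ext
    rw [h1, ← e]
    rfl
  rw [h2]
  exact hg

theorem commute_xr {r s : ℕ} (hr : r < D.nroots) (hs : s < D.nroots) (hrs : s ≠ r) (hneg : s ≠ D.neg r)
    (hc : D.commTerms r s = []) (a b : K) : xr hp s a * xr hp r b = xr hp r b * xr hp s a := by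
  have h1 := comm_xr hp hr hs hrs hneg (L := []) (by rw [hc]; simp) a b
  rw [GS_nil, Subgroup.mem_bot, commutatorElement_eq_one_iff_mul_comm] at h1
  exact h1

/-- the root group `X_s` normalises `GS L` -/
def chk (D : ChevalleyDatum) (L : List ℕ) (s : ℕ) : Prop :=
  ∀ r ∈ L, r < D.nroots ∧ (s = r ∨ (s ≠ D.neg r ∧ ∀ c ∈ D.commTerms r s, c.1 ∈ L))

instance (D : ChevalleyDatum) (L : List ℕ) (s : ℕ) : Decidable (chk D L s) := by
  unfold chk
  infer_instance

theorem conj_mem {L : List ℕ} {s : ℕ} (hs : s < D.nroots) (hc : chk D L s) (a : K) {v : ↥(D.group K)}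
    (hv : v ∈ GS hp K L) : xr hp s a * v * (xr hp s a)⁻¹ ∈ GS hp K L := by
  have h1 : GS hp K L ≤ (GS hp K L).comap (MulAut.conj (xr hp s a)).toMonoidHom := by
    refine (Subgroup.closure_le _).2 ?_
    rintro _ ⟨r, hr, b, rfl⟩
    show xr hp s a * xr hp r b * (xr hp s a)⁻¹ ∈ GS hp K L
    obtain ⟨hr1, hr2⟩ := hc r hr
    by_cases h : s = r
    · subst h
      rw [xr_inv, xr_add, xr_add]
      exact xr_mem_GS hp hr _
    · rcases hr2 with h2 | ⟨h2, h3⟩
      · exact absurd h2 h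
      · have h4 : xr hp s a * xr hp r b * (xr hp s a)⁻¹ = ⁅xr hp s a, xr hp r b⁆ * xr hp r b := by
          rw [commutatorElement_def]; group
        rw [h4]
        exact mul_mem (comm_xr hp hr1 hs h h2 h3 a b) (xr_mem_GS hp hr _)
  exact h1 hv

/-- a torus element normalises `GS L` -/
theorem tconj_mem {L : List ℕ} (hL : ∀ r ∈ L, r < D.nroots) {t : ↥(D.group K)} (ht : t ∈ TT D K) {v : ↥(D.group K)}
    (hv : v ∈ GS hp K L) : t * v * t⁻¹ ∈ GS hp K L := by
  have h1 : GS hp K L ≤ (GS hp K L).comap (MulAut.conj t).toMonoidHom := by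
    refine (Subgroup.closure_le _).2 ?_
    rintro _ ⟨r, hr, b, rfl⟩
    show t * xr hp r b * t⁻¹ ∈ GS hp K L
    rw [← xc_vec hp (hL r hr), (act hp (hL r hr) ht).2, xc_vec hp (hL r hr)]
    exact xr_mem_GS hp hr _
  exact h1 hv

theorem mem_cons {L : List ℕ} {r : ℕ} (hr : r < D.nroots) (hc : chk D L r) {v : ↥(D.group K)}
    (hv : v ∈ GS hp K (r :: L)) : ∃ a, ∃ w ∈ GS hp K L, v = xr hp r a * w := by
  induction hv using Subgroup.closure_induction with
  | mem v hv =>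
    obtain ⟨s, hs, a, rfl⟩ := hv
    rcases List.mem_cons.1 hs with rfl | hs
    · exact ⟨a, 1, one_mem _, (mul_one _).symm⟩
    · exact ⟨0, _, xr_mem_GS hp hs a, by rw [xr_zero, one_mul]⟩
  | one => exact ⟨0, 1, one_mem _, by rw [xr_zero, mul_one]⟩
  | mul x y _ _ hx hy =>
    obtain ⟨a, w, hw, rfl⟩ := hx
    obtain ⟨b, w', hw', rfl⟩ := hy
    refine ⟨a + b, (xr hp r (-b) * w * (xr hp r (-b))⁻¹) * w', mul_mem (conj_mem hp hr hc _ hw) hw', ?_⟩
    rw [← xr_add, ← xr_inv]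
    group
  | inv x _ hx =>
    obtain ⟨a, w, hw, rfl⟩ := hx
    refine ⟨-a, xr hp r a * w⁻¹ * (xr hp r a)⁻¹, conj_mem hp hr hc _ (inv_mem hw), ?_⟩
    rw [← xr_inv]
    group

/-- **The step**: `g` normalises `GS L` and acts on `X_r` as the scalar `c ≠ 1` -/
theorem step [Finite K] {L : List ℕ} {r : ℕ} (hr : r < D.nroots) (hc : chk D L r) {g : ↥(D.group K)} {c : K}
    (hc0 : c ≠ 1) (hg : ∀ a, g * xr hp r a * g⁻¹ = xr hp r (c * a)) (hgL : ∀ w ∈ GS hp K L, g * w * g⁻¹ ∈ GS hp K L)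
    {v : ↥(D.group K)} (hv : v ∈ GS hp K (r :: L)) (hgv : g * v = v * g) : v ∈ GS hp K L := by
  obtain ⟨a, w, hw, rfl⟩ := mem_cons hp hr hc hv
  have h1 : xr hp r (c * a) * (g * w * g⁻¹) = xr hp r a * w := by
    rw [← hg]
    calc _ = g * (xr hp r a * w) * g⁻¹ := by group
      _ = _ := by rw [hgv]; group
  have h2 : xr hp r ((c - 1) * a) ∈ GS hp K L := by
    have h3 : xr hp r ((c - 1) * a) = xr hp r (c * a) * (xr hp r a)⁻¹ := by
      rw [xr_inv, xr_add]
      congr 1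
      ring
    have h4 : xr hp r (c * a) = xr hp r a * (w * (g * w * g⁻¹)⁻¹) := by
      rw [← mul_assoc, ← h1]
      group
    rw [h3, h4]
    exact conj_mem hp hr hc a (mul_mem hw (inv_mem (hgL w hw)))
  -- the set of `b` with `x_r(b) ∈ GS L` is stable under `c - 1`
  let S : Set K := {b | xr hp r b ∈ GS hp K L}
  have hS : ∀ b : S, (c - 1) * b.1 ∈ S := by
    rintro ⟨b, hb⟩
    show xr hp r ((c - 1) * b) ∈ GS hp K L
    have h3 : xr hp r ((c - 1) * b) = xr hp r (c * b) * (xr hp r b)⁻¹ := by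
      rw [xr_inv, xr_add]
      congr 1
      ring
    rw [h3, ← hg]
    exact mul_mem (hgL _ hb) (inv_mem hb)
  have hinj : Function.Injective (fun b : S => (⟨(c - 1) * b.1, hS b⟩ : S)) := by
    rintro ⟨b, hb⟩ ⟨b', hb'⟩ e
    have e' : (c - 1) * b = (c - 1) * b' := congrArg Subtype.val e
    exact Subtype.ext (mul_left_cancel₀ (sub_ne_zero.2 hc0) e')
  obtain ⟨⟨b, hb⟩, e⟩ := (Finite.injective_iff_surjective.1 hinj) ⟨(c - 1) * a, h2⟩
  have e' : (c - 1) * b = (c - 1) * a := congrArg Subtype.val e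
  have hba : b = a := mul_left_cancel₀ (sub_ne_zero.2 hc0) e'
  subst hba
  exact mul_mem hb hw

/-- the torus step -/
theorem tstep [Finite K] {L : List ℕ} {r : ℕ} (hr : r < D.nroots) (hc : chk D L r) {t : ↥(D.group K)}
    (ht : t ∈ TT D K) (hc0 : ch hp (vec D l r) t ≠ 1)
    {v : ↥(D.group K)} (hv : v ∈ GS hp K (r :: L)) (hgv : t * v = v * t) : v ∈ GS hp K L := by
  refine step hp hr hc hc0 (fun a => ?_) (fun w hw => tconj_mem hp (fun s hs => (hc s hs).1) ht hw) hv hgv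
  rw [← xc_vec hp hr, (act hp hr ht).2, xc_vec hp hr]

/-! ### The node homomorphisms -/

include hp in
theorem TT_comm {s t : ↥(D.group K)} (hs : s ∈ TT D K) (ht : t ∈ TT D K) : s * t = t * s := by
  obtain ⟨χ, h1⟩ := HMatDiagAll.diagonalSubgroup_le_torus hp.inList hs
  obtain ⟨ψ, h2⟩ := HMatDiagAll.diagonalSubgroup_le_torus hp.inList ht
  apply Subtype.ext
  apply Units.ext
  rw [Subgroup.coe_mul, Subgroup.coe_mul, Units.val_mul, Units.val_mul]
  erw [h1, h2]
  rw [Matrix.diagonal_mul_diagonal, Matrix.diagonal_mul_diagonal]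
  congr 1
  funext i
  exact mul_comm _ _

include hp in
theorem TT_pow [Fintype K] {t : ↥(D.group K)} (ht : t ∈ TT D K) : t ^ (Fintype.card K - 1) = 1 := by
  obtain ⟨χ, h1⟩ := HMatDiagAll.mem_torus.1 (HMatDiagAll.diagonalSubgroup_le_torus hp.inList ht)
  apply Subtype.ext
  apply Units.ext
  change (((t : ↥(D.group K)) : GL D.Idx K) : Matrix D.Idx D.Idx K) = _ at h1
  rw [Subgroup.coe_pow, Units.val_pow_eq_pow_val, h1, Matrix.diagonal_pow]
  show _ = (1 : Matrix D.Idx D.Idx K)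
  rw [← Matrix.diagonal_one]
  congr 1
  funext i
  have hne : ∀ j : D.Idx, (Sum.elim (fun _ => (1 : K)) χ : D.Idx → K) j ≠ 0 := by
    intro j hj
    have h3 : (((t : ↥(D.group K)) : GL D.Idx K) : Matrix D.Idx D.Idx K).det ≠ 0 :=
      ((Matrix.GeneralLinearGroup.det ((t : ↥(D.group K)) : GL D.Idx K)).ne_zero)
    rw [h1, Matrix.det_diagonal] at h3
    exact h3 (Finset.prod_eq_zero (Finset.mem_univ j) hj)
  rw [Pi.pow_apply]
  exact FiniteField.pow_card_sub_one_eq_one _ (hne i)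

theorem ch_mul {r : ℕ} (hr : r < D.nroots) {s t : ↥(D.group K)} (hs : s ∈ TT D K) (ht : t ∈ TT D K) :
    ch hp (vec D l r) (s * t) = ch hp (vec D l r) s * ch hp (vec D l r) t := by
  apply ch_eq hp hr (mul_mem hs ht)
  have e : s * t * xc hp (vec D l r) 1 * (s * t)⁻¹ = s * (t * xc hp (vec D l r) 1 * t⁻¹) * s⁻¹ := by group
  rw [e, (act hp hr ht).2, (act hp hr hs).2, mul_one]

theorem ch_one {r : ℕ} (hr : r < D.nroots) : ch hp (vec D l r) (1 : ↥(D.group K)) = 1 := by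
  apply ch_eq hp hr (one_mem _)
  rw [one_mul, inv_one, mul_one]

theorem ch_pow {r : ℕ} (hr : r < D.nroots) {t : ↥(D.group K)} (ht : t ∈ TT D K) (k : ℕ) :
    ch hp (vec D l r) (t ^ k) = ch hp (vec D l r) t ^ k := by
  induction k with
  | zero => rw [pow_zero, pow_zero, ch_one hp hr]
  | succ k ih => rw [pow_succ, pow_succ, ch_mul hp hr (pow_mem ht k) ht, ih]

/-- **the homomorphism of the node `i`** -/
theorem exists_psi (i : Fin l) : ∃ Ψ : Matrix.SpecialLinearGroup (Fin 2) K →* ↥(D.group K),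
    (∀ s, Ψ (up s) = xr hp (D.simple i) s) ∧ (∀ s, Ψ (lo s) = xr hp (D.neg (D.simple i)) s) ∧
    ∀ c : Kˣ, Ψ (tau c) = hc hp i (c : K) := by
  obtain ⟨φ, -, hxy⟩ := Cfsg.Agent.S1030.result (F := K) D hp.inList (D.simple i) (simple_lt hp.inList (lt_rank hp i))
  have h1 : ∀ s : K, φ (up s) = xG hp.inList (D.simple i) s := fun u =>
    Units.ext (by rw [(hxy (up u) u).1 rfl, coe_xG])
  have h2 : ∀ s : K, φ (lo s) = xG hp.inList (D.neg (D.simple i)) s := fun u =>
    Units.ext (by rw [(hxy (lo u) u).2 rfl, coe_xG])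
  have hm : ∀ g, φ g ∈ D.group K := by
    intro g
    have h4 : Subgroup.closure (Set.range (up (F := K)) ∪ Set.range (lo (F := K))) ≤ (D.group K).comap φ := by
      rw [Subgroup.closure_le]
      rintro _ (⟨t, rfl⟩ | ⟨t, rfl⟩)
      · show φ (up t) ∈ D.group K
        rw [h1]
        exact xG_mem_group hp.inList _ t
      · show φ (lo t) ∈ D.group K
        rw [h2]
        exact xG_mem_group hp.inList _ t
    exact h4 (SL2Hom.mem_closure_SL2 g)
  refine ⟨φ.codRestrict (D.group K) hm, fun s => Subtype.ext (h1 s), fun s => Subtype.ext (h2 s), fun c => ?_⟩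
  apply Subtype.ext
  show φ (tau c) = hG hp.inList (D.simple i) (c : K)
  rw [Cfsg.Agent.H934.PQR.TorGen.tau_eq, hG_def, nG_def, nG_def]
  unfold Cfsg.Agent.Nodes.RGDFoldSL.hS Cfsg.Agent.Nodes.RGDFoldSL.wS
  rw [map_mul, map_mul, map_mul, map_mul, map_mul, h1, h2, h1, h2]

end Cfsg.Agent.H120.OZ
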