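import Cfsg.Agent.H120.OZ.ChevEl

/-!
# S4842: elliptic elements of the Levi subgroups of rank one of `G₂(q)`, `q ≥ 5` (helper120)

* `gl i : GL₂(F) →* G₂(F)`, the Levi subgroup `L_i`; `gl_inj`;
* `free_gl`, `ell_gl` : `gl i g` is `Free {i}`, `Ell {i}`;
* `exists_ell` : two non conjugate elements `Ell {i}`, `q ≥ 5`.
-/

set_option autoImplicit false
set_option linter.unusedSectionVars false

namespace Cfsg.Agent.H120.OZ

open CoxeterSystem Cfsg.Agent.ChevalleyStructure.CoxeterGeom Cfsg.Agent.Tits.Roots Cfsg.Agent.Tits.Core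
  Cfsg.Agent.Nodes.Reps Cfsg.Agent.Nodes.BNOf Cfsg.Agent.Nodes.StabComb Cfsg.Agent.Nodes.Bruhat
  Cfsg.Agent.Nodes.LeviDec
  Cfsg.Agent.Nodes.OppDec Cfsg.Agent.Nodes.RGDChev Cfsg.Agent.KFacts.RgdChevCoord
open Cfsg.Lie Cfsg.Agent.ChevalleyStructure Cfsg.Agent.ChevalleyStructure.Elts
  Cfsg.Agent.ChevalleyStructure.RootVec Cfsg.Agent.ChevalleyStructure.RootVecTab
  Cfsg.Agent.ChevalleyStructure.NPerm Cfsg.Agent.ChevalleyStructure.CoxeterGeomTypes
open Cfsg.Agent.ChevalleyStructure.SL2Hom (up lo)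
open Cfsg.Agent.H934.PQR.TorGen (tau)
open Cfsg.Agent.H985.VZ

universe u

/-- the type of `G₂` -/
theorem isG2 : IsType chevG2 2 CoxeterMatrix.G₂ := by simp [IsType, typeList]

/-- the Coxeter system -/
abbrev csG : CoxeterSystem CoxeterMatrix.G₂ CoxeterMatrix.G₂.Group := CoxeterMatrix.G₂.toCoxeterSystem

/-- the Levi subgroup, etc. -/
abbrev hC : IsCartan CoxeterMatrix.G₂ (cartanOf chevG2 2) := isG2.isCartan

section

variable {F : Type u} [Field F]

/-- the homomorphism of the node `i` -/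
noncomputable def Ps (F : Type u) [Field F] (i : Fin 2) : Matrix.SpecialLinearGroup (Fin 2) F →* ↥(chevG2.group F) :=
  (exists_psi (K := F) isG2 i).choose

theorem Ps_up (i : Fin 2) (s : F) : Ps F i (up s) = xr isG2 (chevG2.simple i) s :=
  (exists_psi (K := F) isG2 i).choose_spec.1 s

theorem Ps_lo (i : Fin 2) (s : F) : Ps F i (lo s) = xr isG2 (chevG2.neg (chevG2.simple i)) s :=
  (exists_psi (K := F) isG2 i).choose_spec.2.1 s

theorem Ps_tau (i : Fin 2) (c : Fˣ) : Ps F i (tau c) = hc isG2 i (c : F) :=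
  (exists_psi (K := F) isG2 i).choose_spec.2.2 c

theorem Ps_tau_mem (i : Fin 2) (c : Fˣ) : Ps F i (tau c) ∈ TT chevG2 F := by
  rw [Ps_tau]
  exact hc_mem isG2 i c.ne_zero

theorem ch_Ps_tau (i : Fin 2) (c : Fˣ) {r : ℕ} (hr : r < 12) :
    ch isG2 (vec chevG2 2 r) (Ps F i (tau c)) = (c : F) ^ chevG2.cartan i r := by
  rw [Ps_tau]
  exact ch_hc isG2 i c.ne_zero hr

/-- the exponents of the second coroot -/
def kk (i : Fin 2) : ℕ := if i = 0 then 1 else 2

/-- the cocharacter `ω_i` -/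
noncomputable def om (F : Type u) [Field F] (i : Fin 2) : Fˣ →* ↥(chevG2.group F) where
  toFun d := Ps F 0 (tau d) * Ps F 1 (tau (d ^ kk i))
  map_one' := by rw [one_pow, map_one, map_one, map_one, mul_one]
  map_mul' a b := by
    have h := TT_comm isG2 (Ps_tau_mem (F := F) 0 b) (Ps_tau_mem (F := F) 1 (a ^ kk i))
    rw [mul_pow, map_mul, map_mul, map_mul, map_mul, mul_assoc, mul_assoc, ← mul_assoc (Ps F 0 (tau b)), h]
    group

theorem om_apply (i : Fin 2) (d : Fˣ) : om F i d = Ps F 0 (tau d) * Ps F 1 (tau (d ^ kk i)) := rfl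

theorem om_mem (i : Fin 2) (d : Fˣ) : om F i d ∈ TT chevG2 F := mul_mem (Ps_tau_mem _ _) (Ps_tau_mem _ _)

/-- the exponents of `ω_i` -/
def ex (i : Fin 2) (r : ℕ) : ℤ := chevG2.cartan 0 r + kk i * chevG2.cartan 1 r

theorem ch_om (i : Fin 2) (d : Fˣ) {r : ℕ} (hr : r < 12) :
    ch isG2 (vec chevG2 2 r) (om F i d) = (d : F) ^ ex i r := by
  rw [om_apply, ch_mul isG2 hr (Ps_tau_mem _ _) (Ps_tau_mem _ _), ch_Ps_tau 0 d hr, ch_Ps_tau 1 _ hr, ex,
    zpow_add₀ d.ne_zero, zpow_mul, Units.val_pow_eq_pow_val, zpow_natCast]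
  rfl

theorem om_conj_xr (i : Fin 2) (d : Fˣ) {r : ℕ} (hr : r < 12) (s : F) :
    om F i d * xr isG2 r s * (om F i d)⁻¹ = xr isG2 r ((d : F) ^ ex i r * s) := by
  rw [← xc_vec isG2 hr, (act isG2 hr (om_mem i d)).2, ch_om i d hr, xc_vec isG2 hr]

theorem om_conj (i : Fin 2) (d : Fˣ) (B : Matrix.SpecialLinearGroup (Fin 2) F) :
    om F i d * Ps F i B * (om F i d)⁻¹ = Ps F i (cd d B) := by
  refine conj_of_gens (fun s => ?_) (fun s => ?_) B
  · have hr : chevG2.simple i < 12 := by fin_cases i <;> decide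
    have he : ex i (chevG2.simple i) = 1 := by fin_cases i <;> decide
    rw [Ps_up, Ps_up, om_conj_xr i d hr, he, zpow_one]
  · have hr : chevG2.neg (chevG2.simple i) < 12 := by fin_cases i <;> decide
    have he : ex i (chevG2.neg (chevG2.simple i)) = -1 := by fin_cases i <;> decide
    rw [Ps_lo, Ps_lo, om_conj_xr i d hr, he, zpow_neg_one]

/-- **the Levi subgroup** `GL₂(F) → L_i` -/
noncomputable def gl (F : Type u) [Field F] (i : Fin 2) : GL (Fin 2) F →* ↥(chevG2.group F) :=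
  GLi (Ps F i) (om F i) (om_conj i)

theorem gl_apply (i : Fin 2) (g : GL (Fin 2) F) :
    gl F i g = Ps F i (sl g) * om F i (Matrix.GeneralLinearGroup.det g) := rfl

theorem gl_scalar (i : Fin 2) {g : GL (Fin 2) F} {c : Fˣ} (hg : g.1 = (c : F) • (1 : Matrix (Fin 2) (Fin 2) F)) :
    gl F i g = Ps F i (tau c⁻¹) * om F i (c ^ 2) := GLi_scalar _ _ _ hg

/-- the exponents of the centre of `L_i` -/
def ez (i : Fin 2) (r : ℕ) : ℤ := 2 * ex i r - chevG2.cartan i r

theorem gl_scalar_mem (i : Fin 2) {g : GL (Fin 2) F} {c : Fˣ}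
    (hg : g.1 = (c : F) • (1 : Matrix (Fin 2) (Fin 2) F)) : gl F i g ∈ TT chevG2 F := by
  rw [gl_scalar i hg]
  exact mul_mem (Ps_tau_mem _ _) (om_mem _ _)

theorem ch_gl_scalar (i : Fin 2) {g : GL (Fin 2) F} {c : Fˣ}
    (hg : g.1 = (c : F) • (1 : Matrix (Fin 2) (Fin 2) F)) {r : ℕ} (hr : r < 12) :
    ch isG2 (vec chevG2 2 r) (gl F i g) = (c : F) ^ ez i r := by
  rw [gl_scalar i hg, ch_mul isG2 hr (Ps_tau_mem _ _) (om_mem _ _), ch_Ps_tau i _ hr, ch_om i _ hr, ez,
    zpow_sub₀ c.ne_zero, zpow_mul, Units.val_inv_eq_inv_val, inv_zpow, Units.val_pow_eq_pow_val, mul_comm,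
    ← div_eq_mul_inv]
  norm_cast

/-! ### Membership in `L_i` -/

theorem X_sr (i : Fin 2) (s : F) : xr isG2 (chevG2.simple i) s ∈ XX chevG2 2 F (sr i) := by
  have h := simple_lt isG2.inList (lt_rank isG2 i)
  rw [← vec_simple isG2 i, mem_XX_vec isG2 h]
  exact ⟨s, rfl⟩

theorem X_neg_sr (i : Fin 2) (s : F) : xr isG2 (chevG2.neg (chevG2.simple i)) s ∈ XX chevG2 2 F (-sr i) := by
  have h := simple_lt isG2.inList (lt_rank isG2 i)
  rw [← vec_simple isG2 i, ← vec_neg isG2 h, mem_XX_vec isG2 (neg_lt isG2.inList h)]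
  exact ⟨s, rfl⟩

theorem Ps_mem (i : Fin 2) (B : Matrix.SpecialLinearGroup (Fin 2) F) :
    Ps F i B ∈ XX chevG2 2 F (sr i) ⊔ XX chevG2 2 F (-sr i) := by
  have h4 : Subgroup.closure (Set.range (up (F := F)) ∪ Set.range (lo (F := F))) ≤
      (XX chevG2 2 F (sr i) ⊔ XX chevG2 2 F (-sr i)).comap (Ps F i) := by
    rw [Subgroup.closure_le]
    rintro _ (⟨t, rfl⟩ | ⟨t, rfl⟩)
    · show Ps F i (up t) ∈ XX chevG2 2 F (sr i) ⊔ XX chevG2 2 F (-sr i)
      rw [Ps_up]
      exact Subgroup.mem_sup_left (X_sr i t)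
    · show Ps F i (lo t) ∈ XX chevG2 2 F (sr i) ⊔ XX chevG2 2 F (-sr i)
      rw [Ps_lo]
      exact Subgroup.mem_sup_right (X_neg_sr i t)
  exact h4 (SL2Hom.mem_closure_SL2 B)

theorem sr_mem_RootsJ (i : Fin 2) : sr i ∈ RootsJ csG hC {i} := by
  refine ⟨isRoot_sr csG hC i, fun k hk => ?_⟩
  exact sr_ne (fun h => hk (by rw [h]; rfl))

theorem Ps_mem_LJ (i : Fin 2) (B : Matrix.SpecialLinearGroup (Fin 2) F) :
    Ps F i B ∈ LJ csG hC (TT chevG2 F) (XX chevG2 2 F) {i} := by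
  have h1 := sr_mem_RootsJ i
  exact (sup_le (X_le_LJ h1) (X_le_LJ (RootsJ.neg h1))) (Ps_mem i B)

theorem gl_mem_LJ (i : Fin 2) (g : GL (Fin 2) F) : gl F i g ∈ LJ csG hC (TT chevG2 F) (XX chevG2 2 F) {i} := by
  rw [gl_apply]
  exact mul_mem (Ps_mem_LJ i _) (T_le_LJ (om_mem i _))

/-- the image of `SL₂` normalises `GS L` -/
theorem Ps_conj_mem (i : Fin 2) {L : List ℕ} (h1 : chk chevG2 L (chevG2.simple i))
    (h2 : chk chevG2 L (chevG2.neg (chevG2.simple i))) (B : Matrix.SpecialLinearGroup (Fin 2) F)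
    {v : ↥(chevG2.group F)} (hv : v ∈ GS isG2 F L) : Ps F i B * v * (Ps F i B)⁻¹ ∈ GS isG2 F L := by
  have h := simple_lt isG2.inList (lt_rank isG2 i)
  have hB := SL2Hom.mem_closure_SL2 B
  induction hB using Subgroup.closure_induction_left generalizing v with
  | one => rwa [map_one, one_mul, inv_one, mul_one]
  | mul_left x hx y _ ih =>
    have e : Ps F i (x * y) * v * (Ps F i (x * y))⁻¹ = Ps F i x * (Ps F i y * v * (Ps F i y)⁻¹) * (Ps F i x)⁻¹ := by
      rw [map_mul]; group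
    rw [e]
    rcases hx with ⟨s, rfl⟩ | ⟨s, rfl⟩
    · rw [Ps_up]
      exact conj_mem isG2 h h1 s (ih hv)
    · rw [Ps_lo]
      exact conj_mem isG2 (neg_lt isG2.inList h) h2 s (ih hv)
  | inv_mul_cancel x hx y _ ih =>
    have e : Ps F i (x⁻¹ * y) * v * (Ps F i (x⁻¹ * y))⁻¹ =
        Ps F i x⁻¹ * (Ps F i y * v * (Ps F i y)⁻¹) * (Ps F i x⁻¹)⁻¹ := by
      rw [map_mul]; group
    rw [e]
    rcases hx with ⟨s, rfl⟩ | ⟨s, rfl⟩
    · rw [map_inv, Ps_up, xr_inv]
      exact conj_mem isG2 h h1 _ (ih hv)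
    · rw [map_inv, Ps_lo, xr_inv]
      exact conj_mem isG2 (neg_lt isG2.inList h) h2 _ (ih hv)

/-- the image of `SL₂` centralises `X_r` -/
theorem Ps_comm (i : Fin 2) {r : ℕ} (hr : r < 12) (h0 : chevG2.simple i ≠ r ∧ chevG2.simple i ≠ chevG2.neg r ∧
    chevG2.commTerms r (chevG2.simple i) = []) (h1 : chevG2.neg (chevG2.simple i) ≠ r ∧
    chevG2.neg (chevG2.simple i) ≠ chevG2.neg r ∧ chevG2.commTerms r (chevG2.neg (chevG2.simple i)) = [])
    (B : Matrix.SpecialLinearGroup (Fin 2) F) (a : F) : Ps F i B * xr isG2 r a = xr isG2 r a * Ps F i B := by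
  have h := simple_lt isG2.inList (lt_rank isG2 i)
  have h4 : Subgroup.closure (Set.range (up (F := F)) ∪ Set.range (lo (F := F))) ≤
      (Subgroup.centralizer {xr isG2 r a}).comap (Ps F i) := by
    rw [Subgroup.closure_le]
    rintro _ (⟨t, rfl⟩ | ⟨t, rfl⟩)
    · show Ps F i (up t) ∈ Subgroup.centralizer {xr isG2 r a}
      rw [Subgroup.mem_centralizer_singleton_iff, Ps_up]
      exact commute_xr isG2 hr h h0.1 h0.2.1 h0.2.2 t a
    · show Ps F i (lo t) ∈ Subgroup.centralizer {xr isG2 r a}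
      rw [Subgroup.mem_centralizer_singleton_iff, Ps_lo]
      exact commute_xr isG2 hr (neg_lt isG2.inList h) h1.1 h1.2.1 h1.2.2 t a
  exact Subgroup.mem_centralizer_singleton_iff.1 (h4 (SL2Hom.mem_closure_SL2 B))

/-! ### Freeness -/

/-- the roots outside `J = {i}` -/
def LL (i : Fin 2) : List ℕ := if i = 0 then [6, 8, 9, 10, 11] else [7, 8, 9, 10, 11]

theorem VJ_le_GS (i : Fin 2) : VJ csG hC (XX chevG2 2 F) {i} ≤ GS isG2 F (LL i) := by
  refine RGD.Sup_le fun x hx => ?_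
  obtain ⟨h1, h2, k, hk, hk0⟩ := hx
  obtain ⟨r, hr, rfl⟩ := (isRoot_iff isG2 csG x).1 h1
  intro g hg
  obtain ⟨a, rfl⟩ := (mem_XX_vec isG2 hr).1 hg
  refine xr_mem_GS isG2 ?_ a
  rw [vec_apply] at hk0
  have hr' : r < 12 := hr
  have hki : k ≠ i := fun h => hk h
  have key : ∀ i k : Fin 2, k ≠ i → ∀ r < 12, 0 < rt chevG2 r k → r ∈ LL i := by decide +kernel
  exact key i k hki r hr' hk0

/-- the steps -/
theorem free_aux [Finite F] (i : Fin 2) {v t' t : ↥(chevG2.group F)} (hv : v ∈ GS isG2 F (LL i)) {N : Fˣ}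
    (ht' : t' ∈ TT chevG2 F) (hch : ∀ r < 12, ch isG2 (vec chevG2 2 r) t' = (N : F) ^ ez i r)
    (hN1 : (N : F) ≠ 1) (hN3 : i = 1 → (N : F) ^ 3 ≠ 1) (h' : t' * v = v * t')
    (hte : ∃ B, t = Ps F i B * om F i N) (h : t * v = v * t) : v = 1 := by
  obtain ⟨B, rfl⟩ := hte
  have ht : ∀ (L : List ℕ), chk chevG2 L (chevG2.simple i) → chk chevG2 L (chevG2.neg (chevG2.simple i)) →
      ∀ w ∈ GS isG2 F L, (Ps F i B * om F i N) * w * (Ps F i B * om F i N)⁻¹ ∈ GS isG2 F L := by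
    intro L h1 h2 w hw
    have e : (Ps F i B * om F i N) * w * (Ps F i B * om F i N)⁻¹ =
        Ps F i B * (om F i N * w * (om F i N)⁻¹) * (Ps F i B)⁻¹ := by group
    rw [e]
    exact Ps_conj_mem i h1 h2 B (tconj_mem isG2 (fun r hr => (h1 r hr).1) (om_mem i N) hw)
  have hb : ∀ (r : ℕ) (hr : r < 12), (chevG2.simple i ≠ r ∧ chevG2.simple i ≠ chevG2.neg r ∧
      chevG2.commTerms r (chevG2.simple i) = []) → (chevG2.neg (chevG2.simple i) ≠ r ∧
      chevG2.neg (chevG2.simple i) ≠ chevG2.neg r ∧ chevG2.commTerms r (chevG2.neg (chevG2.simple i)) = []) →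
      ex i r = 1 → ∀ a, (Ps F i B * om F i N) * xr isG2 r a * (Ps F i B * om F i N)⁻¹ = xr isG2 r ((N : F) * a) := by
    intro r hr h0 h1 he a
    have e : (Ps F i B * om F i N) * xr isG2 r a * (Ps F i B * om F i N)⁻¹ =
        Ps F i B * (om F i N * xr isG2 r a * (om F i N)⁻¹) * (Ps F i B)⁻¹ := by group
    rw [e, om_conj_xr i N hr, he, zpow_one, Ps_comm i hr h0 h1, mul_inv_cancel_right]
  have hN3' : ∀ k : ℤ, (k = 1 ∨ (k = 3 ∧ i = 1)) → (N : F) ^ k ≠ 1 := by
    rintro k (rfl | ⟨rfl, hi⟩)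
    · rwa [zpow_one]
    · have := hN3 hi
      exact_mod_cast this
  fin_cases i
  · have hv : v ∈ GS isG2 F [6, 8, 9, 10, 11] := hv
    have s1 := tstep isG2 (by decide) (by decide +kernel) ht'
      (by rw [hch 6 (by decide)]; exact hN3' _ (by decide +kernel)) hv h'
    have s2 := tstep isG2 (by decide) (by decide +kernel) ht'
      (by rw [hch 8 (by decide)]; exact hN3' _ (by decide +kernel)) s1 h'
    have s3 := tstep isG2 (by decide) (by decide +kernel) ht'
      (by rw [hch 9 (by decide)]; exact hN3' _ (by decide +kernel)) s2 h'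
    have s4 := tstep isG2 (by decide) (by decide +kernel) ht'
      (by rw [hch 10 (by decide)]; exact hN3' _ (by decide +kernel)) s3 h'
    have s5 := step isG2 (r := 11) (L := []) (by decide) (by decide +kernel) hN1
      (hb 11 (by decide) (by decide +kernel) (by decide +kernel) (by decide +kernel))
      (ht [] (by decide +kernel) (by decide +kernel)) s4 h
    rwa [GS_nil, Subgroup.mem_bot] at s5
  · have hv : v ∈ GS isG2 F [7, 8, 9, 10, 11] := hv
    have s1 := tstep isG2 (by decide) (by decide +kernel) ht'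
      (by rw [hch 7 (by decide)]; exact hN3' _ (by decide +kernel)) hv h'
    have s2 := tstep isG2 (by decide) (by decide +kernel) ht'
      (by rw [hch 8 (by decide)]; exact hN3' _ (by decide +kernel)) s1 h'
    have s3 := step isG2 (r := 9) (L := [10, 11]) (by decide) (by decide +kernel) hN1
      (hb 9 (by decide) (by decide +kernel) (by decide +kernel) (by decide +kernel))
      (ht [10, 11] (by decide +kernel) (by decide +kernel)) s2 h
    have s4 := tstep isG2 (by decide) (by decide +kernel) ht'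
      (by rw [hch 10 (by decide)]; exact hN3' _ (by decide +kernel)) s3 h'
    have s5 := tstep isG2 (by decide) (by decide +kernel) ht'
      (by rw [hch 11 (by decide)]; exact hN3' _ (by decide +kernel)) s4 h'
    rwa [GS_nil, Subgroup.mem_bot] at s5

/-- **freeness** -/
theorem free_gl [Fintype F] (i : Fin 2) {g : GL (Fin 2) F} {N : Fˣ} (hdet : Matrix.GeneralLinearGroup.det g = N)
    {k : ℕ} (hg : (g ^ k).1 = (N : F) • (1 : Matrix (Fin 2) (Fin 2) F)) (hN1 : (N : F) ≠ 1)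
    (hN3 : i = 1 → (N : F) ^ 3 ≠ 1) : Free csG hC (TT chevG2 F) (XX chevG2 2 F) {i} (gl F i g) := by
  refine ⟨gl_mem_LJ i g, fun v hv h => ?_⟩
  refine free_aux i (VJ_le_GS i hv) (gl_scalar_mem i hg) (fun r hr => ch_gl_scalar i hg hr) hN1 hN3 ?_
    ⟨sl g, by rw [gl_apply, hdet]⟩ h
  rw [map_pow]
  exact (show Commute _ _ from h).pow_left k

/-! ### Injectivity -/

theorem Ps_w (i : Fin 2) : Ps F i (Cfsg.Agent.Nodes.RGDFoldSL.wS 1) = nc isG2 F i := by
  apply Subtype.ext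
  show _ = nG isG2.inList (chevG2.simple i) 1
  unfold Cfsg.Agent.Nodes.RGDFoldSL.wS
  rw [map_mul, map_mul, Ps_up, Ps_lo, nG_def]
  rfl

theorem xr_pow (r : ℕ) (a : F) (k : ℕ) : xr isG2 r a ^ k = xr isG2 r (k * a) := by
  induction k with
  | zero => rw [pow_zero, Nat.cast_zero, zero_mul, xr_zero]
  | succ k ih => rw [pow_succ, ih, xr_add, Nat.cast_succ, add_mul, one_mul]

theorem xr_of_TT [Fintype F] {r : ℕ} (hr : r < 12) {a : F} (h : xr isG2 r a ∈ TT chevG2 F) : a = 0 := by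
  have h1 := TT_pow isG2 h
  rw [xr_pow, ← xr_zero isG2 r] at h1
  have h2 := xr_inj isG2 hr h1
  have hq : 1 < Fintype.card F := Fintype.one_lt_card
  have h3 : ((Fintype.card F - 1 : ℕ) : F) = -1 := by
    rw [Nat.cast_sub hq.le, Nat.cast_one, Nat.cast_card_eq_zero, zero_sub]
  rw [h3, neg_one_mul, neg_eq_zero] at h2
  exact h2

theorem n_notMem [Finite F] (p : ℕ) [Fact p.Prime] [CharP F p] (i : Fin 2) :
    nc isG2 F i ∉ RGD.B csG hC (TT chevG2 F) (XX chevG2 2 F) := by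
  have : Finite CoxeterMatrix.G₂.Group := finite_W isG2 csG
  have R := rgd (K := F) isG2 csG p
  intro h
  have h1 := Cell.unique R (cell_of_rp (rp_simple csG R.nsys i)) (cell_one_of_mem h)
  have h2 := csG.length_simple i
  rw [h1, csG.length_one] at h2
  exact absurd h2 (by norm_num)

theorem gl_inj [Fintype F] (i : Fin 2) : Function.Injective (gl F i) := by
  obtain ⟨p, hcp⟩ := CharP.exists F
  have : Fact p.Prime := ⟨CharP.char_is_prime F p⟩
  have hsi : chevG2.simple i < 12 := by fin_cases i <;> decide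
  rw [injective_iff_map_eq_one]
  intro g hg
  rw [gl_apply] at hg
  rcases Cfsg.Agent.H934.PQR.TorGen.bruhat (sl g) with ⟨x, c, e⟩ | ⟨x, c, y, e⟩
  · rw [e, map_mul, Ps_up] at hg
    set d := Matrix.GeneralLinearGroup.det g with hd
    have h1 : xr isG2 (chevG2.simple i) x = (Ps F i (tau c) * om F i d)⁻¹ := by
      rw [eq_inv_iff_mul_eq_one, ← mul_assoc]
      exact hg
    have h2 : x = 0 := by
      refine xr_of_TT hsi (r := chevG2.simple i) ?_
      rw [h1]
      exact inv_mem (mul_mem (Ps_tau_mem _ _) (om_mem _ _))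
    rw [h2, xr_zero, one_mul] at hg
    have h3 : ∀ r < 12, (c : F) ^ chevG2.cartan i r * (d : F) ^ ex i r = 1 := by
      intro r hr
      have h4 := congrArg (ch isG2 (vec chevG2 2 r)) hg
      rwa [ch_mul isG2 hr (Ps_tau_mem _ _) (om_mem _ _), ch_Ps_tau i _ hr, ch_om i _ hr, ch_one isG2 hr] at h4
    have hc : (c : F) = 1 := by
      have h5 : ∃ r < 12, chevG2.cartan i r = 1 ∧ ex i r = 0 := by
        fin_cases i
        · exact ⟨3, by decide, by decide, by decide⟩
        · exact ⟨4, by decide, by decide, by decide⟩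
      obtain ⟨r, hr, h6, h7⟩ := h5
      have := h3 r hr
      rwa [h6, h7, zpow_zero, mul_one, zpow_one] at this
    have hd1 : (d : F) = 1 := by
      have := h3 _ hsi
      have he : ex i (chevG2.simple i) = 1 := by fin_cases i <;> decide
      rwa [hc, one_zpow, one_mul, he, zpow_one] at this
    have hc' : c = 1 := Units.ext hc
    have hsl : sl g = 1 := by
      rw [e, h2, hc', map_one, mul_one]
      apply Subtype.ext
      ext a b
      fin_cases a <;> fin_cases b <;> simp [up]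
    have h8 := congrArg Subtype.val hsl
    rw [coe_sl, ← coe_det, ← hd, hd1, inv_one, mul_one, mul_one] at h8
    apply Units.ext
    show g.1 = 1
    have h9 : g.1 = !![g.1 0 0, g.1 0 1; g.1 1 0, g.1 1 1] := Matrix.eta_fin_two _
    rw [h9, h8]
    rfl
  · exfalso
    rw [e, map_mul, map_mul, map_mul, Ps_w, Ps_up, Ps_up] at hg
    have hB1 : ∀ s : F, xr isG2 (chevG2.simple i) s ∈ RGD.B csG hC (TT chevG2 F) (XX chevG2 2 F) := fun s =>
      RGD.X_le_B (isRoot_sr csG hC i) (by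
        intro k
        show (0 : ℤ) ≤ sr i k
        by_cases hk : k = i
        · subst hk; rw [sr_self]; exact zero_le_one
        · rw [sr_ne hk]) (X_sr i s)
    have hB2 : ∀ t ∈ TT chevG2 F, t ∈ RGD.B csG hC (TT chevG2 F) (XX chevG2 2 F) := fun t ht => RGD.T_le_B ht
    apply n_notMem (F := F) p i
    have h1 : nc isG2 F i = (xr isG2 (chevG2.simple i) x * Ps F i (tau c))⁻¹ *
        (xr isG2 (chevG2.simple i) y * om F i (Matrix.GeneralLinearGroup.det g))⁻¹ := by
      calc nc isG2 F i = (xr isG2 (chevG2.simple i) x * Ps F i (tau c))⁻¹ *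
            (xr isG2 (chevG2.simple i) x * Ps F i (tau c) * nc isG2 F i * xr isG2 (chevG2.simple i) y *
              om F i (Matrix.GeneralLinearGroup.det g)) *
            (xr isG2 (chevG2.simple i) y * om F i (Matrix.GeneralLinearGroup.det g))⁻¹ := by group
        _ = _ := by rw [hg, mul_one]
    rw [h1]
    exact mul_mem (inv_mem (mul_mem (hB1 _) (hB2 _ (Ps_tau_mem _ _)))) (inv_mem (mul_mem (hB1 _) (hB2 _ (om_mem _ _))))

/-! ### Ellipticity -/

theorem pow_mem_U [Fintype F] (p : ℕ) [Fact p.Prime] [CharP F p] {b : ↥(chevG2.group F)}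
    (hb : b ∈ PJ csG hC (TT chevG2 F) (XX chevG2 2 F) ∅) :
    b ^ (Fintype.card F - 1) ∈ RGD.Sup (XX chevG2 2 F) (RGD.Pos csG hC) := by
  have : Finite CoxeterMatrix.G₂.Group := finite_W isG2 csG
  have R := rgd (K := F) isG2 csG p
  have hT : ∀ t ∈ LJ csG hC (TT chevG2 F) (XX chevG2 2 F) ∅, t ∈ TT chevG2 F := by
    intro t ht
    refine (sup_le le_rfl (RGD.Sup_le fun x hx => ?_) : LJ csG hC (TT chevG2 F) (XX chevG2 2 F) ∅ ≤ TT chevG2 F) ht
    exfalso
    have h1 : x = 0 := funext fun k => hx.2 k (Set.notMem_empty k)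
    obtain ⟨r, hr, e⟩ := (isRoot_iff isG2 csG x).1 hx.1
    rw [h1] at e
    have hr' : r < 12 := hr
    have key : ∀ r < 12, ¬ (rt chevG2 r 0 = 0 ∧ rt chevG2 r 1 = 0) := by decide +kernel
    exact key r hr' ⟨congrFun e 0, congrFun e 1⟩
  obtain ⟨t, ht, v, hv, rfl⟩ := (mem_PJ R).1 hb
  have ht' := hT t ht
  have hv' := VJ_le_U _ hv
  have hnorm : ∀ u ∈ RGD.Sup (XX chevG2 2 F) (RGD.Pos csG hC), t⁻¹ * u * t ∈ RGD.Sup (XX chevG2 2 F) (RGD.Pos csG hC) := by
    intro u hu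
    have h1 := (R.T_le_normalizer (S := RGD.Pos csG hC) fun _ hx => hx.1) (inv_mem ht')
    have h2 := (Subgroup.mem_normalizer_iff.1 h1 u).1 hu
    rwa [inv_inv] at h2
  have key : ∀ k : ℕ, ∃ u ∈ RGD.Sup (XX chevG2 2 F) (RGD.Pos csG hC), (t * v) ^ k = t ^ k * u := by
    intro k
    induction k with
    | zero => exact ⟨1, one_mem _, by simp⟩
    | succ k ih =>
      obtain ⟨u, hu, e⟩ := ih
      refine ⟨(t⁻¹ * u * t) * v, mul_mem (hnorm u hu) hv', ?_⟩
      rw [pow_succ, e, pow_succ]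
      group
  obtain ⟨u, hu, e⟩ := key (Fintype.card F - 1)
  rw [e, TT_pow isG2 ht', one_mul]
  exact hu

/-- **ellipticity** -/
theorem ell_gl [Fintype F] (i : Fin 2) {g : GL (Fin 2) F} {N : Fˣ} (hdet : Matrix.GeneralLinearGroup.det g = N)
    (hg : (g ^ (Fintype.card F + 1)).1 = (N : F) • (1 : Matrix (Fin 2) (Fin 2) F)) (hN1 : (N : F) ≠ 1)
    (hN3 : i = 1 → (N : F) ^ 3 ≠ 1) (hg1 : g ^ (Fintype.card F - 1) ≠ 1)
    (hg2 : (g ^ (Fintype.card F - 1)) ^ (Fintype.card F + 1) = 1) :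
    Ell csG hC (TT chevG2 F) (XX chevG2 2 F) {i} (gl F i g) := by
  obtain ⟨p, hcp⟩ := CharP.exists F
  have hpp : Fact p.Prime := ⟨CharP.char_is_prime F p⟩
  have : Finite CoxeterMatrix.G₂.Group := finite_W isG2 csG
  have R := rgd (K := F) isG2 csG p
  refine ⟨free_gl i hdet hg hN1 hN3, fun K hK l _ hl => ?_⟩
  rw [Set.ssubset_singleton_iff.1 hK] at hl
  have h1 := pow_mem_U p hl
  have h2 : (l * gl F i g * l⁻¹) ^ (Fintype.card F - 1) = l * gl F i (g ^ (Fintype.card F - 1)) * l⁻¹ := by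
    rw [conj_pow, map_pow]
  rw [h2] at h1
  have hco : (Fintype.card F + 1).Coprime p := by
    obtain ⟨n, hn, e⟩ := FiniteField.card F p
    rw [Nat.coprime_comm, hpp.out.coprime_iff_not_dvd]
    intro h
    have h3 : p ∣ Fintype.card F := by
      rw [e]
      exact dvd_pow_self p n.ne_zero
    exact hpp.out.one_lt.ne' (Nat.dvd_one.1 ((Nat.dvd_add_right h3).1 h))
  have h3 := eq_one_of_isPGroup (k := Fintype.card F + 1) R.isPGroup_Upos h1 (by
    rw [conj_pow, ← map_pow, hg2, map_one, mul_one, mul_inv_cancel]) hco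
  have h4 : gl F i (g ^ (Fintype.card F - 1)) = 1 := by
    have : l * gl F i (g ^ (Fintype.card F - 1)) * l⁻¹ = 1 := h3
    rwa [mul_inv_eq_one, mul_eq_left] at this
  exact hg1 (gl_inj i (h4.trans (map_one _).symm))

end

/-- **Two non conjugate elliptic elements of each Levi subgroup of rank one**, `q ≥ 5`. -/
theorem exists_ell (F : Type u) [Field F] [Fintype F] (hF : 5 ≤ Fintype.card F) (i : Fin 2) :
    ∃ t t' : ↥(chevG2.group F), Ell csG hC (TT chevG2 F) (XX chevG2 2 F) {i} t ∧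
      Ell csG hC (TT chevG2 F) (XX chevG2 2 F) {i} t' ∧ ¬ IsConj t t' := by
  classical
  obtain ⟨g, N, hgo, hNo, hdet, hgN⟩ := exists_elt F
  set q := Fintype.card F with hq
  -- the exponent
  obtain ⟨j, hj1, hj2, hj3, hj4⟩ : ∃ j : ℕ, 1 < j ∧ j < 4 ∧ j ∣ q ^ 2 - 1 ∧ ¬ (q - 1 ∣ j * 3) := by
    obtain ⟨p, hcp⟩ := CharP.exists F
    have hpp : p.Prime := CharP.char_is_prime F p
    have : Fact p.Prime := ⟨hpp⟩
    obtain ⟨n, -, e⟩ := FiniteField.card F p
    rcases Nat.even_or_odd q with he | ho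
    · have hp2 : p = 2 := by
        have h1 : 2 ∣ p ^ (n : ℕ) := by rw [← e]; exact he.two_dvd
        exact ((Nat.prime_dvd_prime_iff_eq Nat.prime_two hpp).1 (Nat.prime_two.dvd_of_dvd_pow h1)).symm
      have h3 : ¬ 3 ∣ q := by
        rw [hq, e, hp2]
        intro h
        have := (Nat.prime_dvd_prime_iff_eq Nat.prime_three Nat.prime_two).1 (Nat.prime_three.dvd_of_dvd_pow h)
        omega
      have h5 : ¬ 5 ∣ q := by
        rw [hq, e, hp2]
        intro h
        have := (Nat.prime_dvd_prime_iff_eq Nat.prime_five Nat.prime_two).1 (Nat.prime_five.dvd_of_dvd_pow h)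
        omega
      refine ⟨3, by norm_num, by norm_num, ?_, ?_⟩
      · have h6 : q % 3 = 1 ∨ q % 3 = 2 := by omega
        have h7 : q ^ 2 % 3 = 1 := by
          rcases h6 with h6 | h6 <;> simp [Nat.pow_mod, h6]
        omega
      · intro h
        have h6 : q - 1 ≤ 9 := Nat.le_of_dvd (by norm_num) h
        have h7 : q ≤ 10 := by omega
        interval_cases q <;> omega
    · by_cases h7 : q = 7
      · refine ⟨3, by norm_num, by norm_num, ?_, ?_⟩ <;> rw [h7] <;> decide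
      · refine ⟨2, by norm_num, by norm_num, ?_, ?_⟩
        · obtain ⟨c, hc⟩ := ho
          rw [hc]
          have : (2 * c + 1) ^ 2 = 2 * (2 * c * c + 2 * c) + 1 := by ring
          omega
        · intro h
          have h6 : q - 1 ≤ 6 := Nat.le_of_dvd (by norm_num) h
          have h8 : q ≤ 7 := by omega
          interval_cases q <;> omega
  have hqq : q ^ 2 - 1 = (q + 1) * (q - 1) := by
    obtain ⟨c, hc⟩ : ∃ c, q = c + 1 := ⟨q - 1, by omega⟩
    rw [hc, Nat.add_sub_cancel]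
    have : (c + 1) ^ 2 = (c + 1 + 1) * c + 1 := by ring
    omega
  have hpos : 0 < q - 1 := by omega
  have hNpow : ∀ k : ℕ, 0 < k → ¬ (q - 1 ∣ k) → (N : F) ^ k ≠ 1 := by
    intro k _ hk h
    apply hk
    rw [← hNo]
    apply orderOf_dvd_of_pow_eq_one
    apply Units.ext
    rw [Units.val_pow_eq_pow_val, h, Units.val_one]
  have hndvd : ∀ k : ℕ, 0 < k → k < 4 → ¬ (q - 1 ∣ k) := by
    intro k h0 h4 h
    have := Nat.le_of_dvd h0 h
    omega
  have hgpow : ∀ k : ℕ, 0 < k → k < 4 → (g ^ k) ^ (q - 1) ≠ 1 := by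
    intro k h0 h4 h
    rw [← pow_mul] at h
    have h1 := orderOf_dvd_of_pow_eq_one h
    rw [hgo, hqq] at h1
    have h2 := Nat.le_of_dvd (Nat.mul_pos h0 hpos) h1
    have h3 := Nat.le_of_mul_le_mul_right h2 hpos
    omega
  have hg2 : ∀ k : ℕ, ((g ^ k) ^ (q - 1)) ^ (q + 1) = 1 := by
    intro k
    rw [← pow_mul, ← pow_mul, show k * ((q - 1) * (q + 1)) = (q ^ 2 - 1) * k by rw [hqq]; ring, pow_mul, ← hgo,
      pow_orderOf_eq_one, one_pow]
  have h1 : Ell csG hC (TT chevG2 F) (XX chevG2 2 F) {i} (gl F i g) := by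
    refine ell_gl i hdet hgN ?_ (fun _ => hNpow 3 (by norm_num) (hndvd 3 (by norm_num) (by norm_num))) ?_ ?_
    · have := hNpow 1 (by norm_num) (hndvd 1 (by norm_num) (by norm_num))
      rwa [pow_one] at this
    · have := hgpow 1 (by norm_num) (by norm_num)
      rwa [pow_one] at this
    · have := hg2 1
      rwa [pow_one] at this
  have h2 : Ell csG hC (TT chevG2 F) (XX chevG2 2 F) {i} (gl F i (g ^ j)) := by
    refine ell_gl (N := N ^ j) i (by rw [map_pow, hdet]) ?_ ?_ (fun _ => ?_) (hgpow j (by omega) hj2) (hg2 j)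
    · rw [← pow_mul, mul_comm, pow_mul, Units.val_pow_eq_pow_val, hgN, smul_pow, one_pow,
        Units.val_pow_eq_pow_val]
    · rw [Units.val_pow_eq_pow_val]
      exact hNpow j (by omega) (hndvd j (by omega) hj2)
    · rw [Units.val_pow_eq_pow_val, ← pow_mul]
      exact hNpow _ (by omega) hj4
  refine ⟨gl F i g, gl F i (g ^ j), h1, h2, fun hc => ?_⟩
  obtain ⟨c, hc⟩ := isConj_iff.1 hc
  have h3 : orderOf (gl F i g) = orderOf (gl F i (g ^ j)) := by
    rw [← hc]
    exact (orderOf_injective (MulAut.conj c).toMonoidHom (MulAut.conj c).injective _).symm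
  rw [orderOf_injective _ (gl_inj i), orderOf_injective _ (gl_inj i), hgo,
    orderOf_pow_of_dvd (by omega) (by rw [hgo]; exact hj3), hgo] at h3
  have h4 : 0 < q ^ 2 - 1 := by rw [hqq]; exact Nat.mul_pos (by omega) hpos
  have h5 := Nat.div_lt_self h4 hj1
  omega

end Cfsg.Agent.H120.OZ
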